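import Cfsg.Agent.Spor.C3H.D0

set_option autoImplicit false
set_option maxRecDepth 100000000
set_option Elab.async false

namespace Cfsg.Agent.Spor.C3H

theorem ok0 : Net.okb 10 n0 = true := by decide +kernel

theorem ok1 : Net.okb 10 n1 = true := by decide +kernel

theorem ok2 : Net.okb 10 n2 = true := by decide +kernel

theorem rel0 : T.rel 10 [1, 1] 0 10 = true := by decide +kernel

theorem rel1 : T.rel 10 [2, 2] 0 10 = true := by decide +kernel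

theorem rel2 : T.rel 10 [3, 3] 0 10 = true := by decide +kernel

theorem rel3 : T.rel 10 [2, 3, 2, 3] 0 10 = true := by decide +kernel

theorem rel4 : T.rel 10 [1, 2, 1, 3, 1, 2, 1, 2, 1, 3, 2, 1, 3, 1, 2, 1, 3, 1, 3, 1, 2] 0 10 = true := by decide +kernel

theorem rel5 : T.rel 10 [1, 2, 1, 2, 1, 2, 1, 2, 1, 2, 1, 2] 0 10 = true := by decide +kernel

theorem hcov : T.treeCov (ones 768) L 1 = true := by decide +kernel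

theorem hg : lall (fun z => band (memL L z) (band (sub (ones 768) (T.let z).cl) (T.closed (ones 768) z))) gs = true := by decide +kernel

theorem rot1_1 : T.rot 1 [1] (sel (ones 768) ip1 1) = true := by decide +kernel

theorem rot1_1r : band (Rule.ok (2 * 3) EX RL ⟨1 :: [1], [], 3, false⟩) (lall (memL L) [1]) = true := by decide +kernel

theorem rot1_2 : T.rot 1 [2, 1, 2, 1, 2, 1, 2, 1, 2, 1, 2] (sel (ones 768) ip1 2) = true := by decide +kernel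

theorem rot1_2r : band (Rule.ok (2 * 3) EX RL ⟨1 :: [2, 1, 2, 1, 2, 1, 2, 1, 2, 1, 2], [], 2, true⟩) (lall (memL L) [2, 1, 2, 1, 2, 1, 2, 1, 2, 1, 2]) = true := by decide +kernel

theorem rot1_3 : T.rot 1 [2, 1, 3, 1, 2, 1, 2, 1, 3, 2, 1, 3, 1, 2, 1, 3, 1, 3, 1, 2] (sel (ones 768) ip1 3) = true := by decide +kernel

theorem rot1_3r : band (Rule.ok (2 * 3) EX RL ⟨1 :: [2, 1, 3, 1, 2, 1, 2, 1, 3, 2, 1, 3, 1, 2, 1, 3, 1, 3, 1, 2], [], 1, true⟩) (lall (memL L) [2, 1, 3, 1, 2, 1, 2, 1, 3, 2, 1, 3, 1, 2, 1, 3, 1, 3, 1, 2]) = true := by decide +kernel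

theorem rot1_4 : T.rot 1 [3, 1, 2, 1, 2, 1, 3, 2, 1, 3, 1, 2, 1, 3, 1, 3, 1, 2, 1, 2] (sel (ones 768) ip1 4) = true := by decide +kernel

theorem rot1_4r : band (Rule.ok (2 * 3) EX RL ⟨1 :: [3, 1, 2, 1, 2, 1, 3, 2, 1, 3, 1, 2, 1, 3, 1, 3, 1, 2, 1, 2], [0, 2], 1, true⟩) (lall (memL L) [3, 1, 2, 1, 2, 1, 3, 2, 1, 3, 1, 2, 1, 3, 1, 3, 1, 2, 1, 2]) = true := by decide +kernel

theorem rot1_5 : T.rot 1 [2, 1, 2, 1, 3, 2, 1, 3, 1, 2, 1, 3, 1, 3, 1, 2, 1, 2, 1, 3] (sel (ones 768) ip1 5) = true := by decide +kernel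

theorem rot1_5r : band (Rule.ok (2 * 3) EX RL ⟨1 :: [2, 1, 2, 1, 3, 2, 1, 3, 1, 2, 1, 3, 1, 3, 1, 2, 1, 2, 1, 3], [0, 2, 0, 4], 1, true⟩) (lall (memL L) [2, 1, 2, 1, 3, 2, 1, 3, 1, 2, 1, 3, 1, 3, 1, 2, 1, 2, 1, 3]) = true := by decide +kernel

theorem rot1_6 : T.rot 1 [2, 1, 3, 2, 1, 3, 1, 2, 1, 3, 1, 3, 1, 2, 1, 2, 1, 3, 1, 2] (sel (ones 768) ip1 6) = true := by decide +kernel

theorem rot1_6r : band (Rule.ok (2 * 3) EX RL ⟨1 :: [2, 1, 3, 2, 1, 3, 1, 2, 1, 3, 1, 3, 1, 2, 1, 2, 1, 3, 1, 2], [0, 2, 0, 4, 0, 2], 1, true⟩) (lall (memL L) [2, 1, 3, 2, 1, 3, 1, 2, 1, 3, 1, 3, 1, 2, 1, 2, 1, 3, 1, 2]) = true := by decide +kernel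

theorem rot1_7 : T.rot 1 [3, 2, 1, 3, 1, 2, 1, 3, 1, 3, 1, 2, 1, 2, 1, 3, 1, 2, 1, 2] (sel (ones 768) ip1 7) = true := by decide +kernel

theorem rot1_7r : band (Rule.ok (2 * 3) EX RL ⟨1 :: [3, 2, 1, 3, 1, 2, 1, 3, 1, 3, 1, 2, 1, 2, 1, 3, 1, 2, 1, 2], [0, 2, 0, 4, 0, 2, 0, 2], 1, true⟩) (lall (memL L) [3, 2, 1, 3, 1, 2, 1, 3, 1, 3, 1, 2, 1, 2, 1, 3, 1, 2, 1, 2]) = true := by decide +kernel

theorem rot1_8 : T.rot 1 [3, 1, 2, 1, 3, 1, 3, 1, 2, 1, 2, 1, 3, 1, 2, 1, 2, 1, 3, 2] (sel (ones 768) ip1 8) = true := by decide +kernel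

theorem rot1_8r : band (Rule.ok (2 * 3) EX RL ⟨1 :: [3, 1, 2, 1, 3, 1, 3, 1, 2, 1, 2, 1, 3, 1, 2, 1, 2, 1, 3, 2], [2, 0, 4, 0, 4, 0, 2, 0, 4, 0], 1, true⟩) (lall (memL L) [3, 1, 2, 1, 3, 1, 3, 1, 2, 1, 2, 1, 3, 1, 2, 1, 2, 1, 3, 2]) = true := by decide +kernel

theorem rot1_9 : T.rot 1 [2, 1, 3, 1, 3, 1, 2, 1, 2, 1, 3, 1, 2, 1, 2, 1, 3, 2, 1, 3] (sel (ones 768) ip1 9) = true := by decide +kernel

theorem rot1_9r : band (Rule.ok (2 * 3) EX RL ⟨1 :: [2, 1, 3, 1, 3, 1, 2, 1, 2, 1, 3, 1, 2, 1, 2, 1, 3, 2, 1, 3], [2, 0, 4, 0, 4, 0, 2, 0], 1, true⟩) (lall (memL L) [2, 1, 3, 1, 3, 1, 2, 1, 2, 1, 3, 1, 2, 1, 2, 1, 3, 2, 1, 3]) = true := by decide +kernel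

theorem rot1_10 : T.rot 1 [3, 1, 3, 1, 2, 1, 2, 1, 3, 1, 2, 1, 2, 1, 3, 2, 1, 3, 1, 2] (sel (ones 768) ip1 10) = true := by decide +kernel

theorem rot1_10r : band (Rule.ok (2 * 3) EX RL ⟨1 :: [3, 1, 3, 1, 2, 1, 2, 1, 3, 1, 2, 1, 2, 1, 3, 2, 1, 3, 1, 2], [2, 0, 4, 0, 4, 0], 1, true⟩) (lall (memL L) [3, 1, 3, 1, 2, 1, 2, 1, 3, 1, 2, 1, 2, 1, 3, 2, 1, 3, 1, 2]) = true := by decide +kernel

theorem rot1_11 : T.rot 1 [3, 1, 2, 1, 2, 1, 3, 1, 2, 1, 2, 1, 3, 2, 1, 3, 1, 2, 1, 3] (sel (ones 768) ip1 11) = true := by decide +kernel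

theorem rot1_11r : band (Rule.ok (2 * 3) EX RL ⟨1 :: [3, 1, 2, 1, 2, 1, 3, 1, 2, 1, 2, 1, 3, 2, 1, 3, 1, 2, 1, 3], [2, 0, 4, 0], 1, true⟩) (lall (memL L) [3, 1, 2, 1, 2, 1, 3, 1, 2, 1, 2, 1, 3, 2, 1, 3, 1, 2, 1, 3]) = true := by decide +kernel

theorem rot1_12 : T.rot 1 [2, 1, 2, 1, 3, 1, 2, 1, 2, 1, 3, 2, 1, 3, 1, 2, 1, 3, 1, 3] (sel (ones 768) ip1 12) = true := by decide +kernel

theorem rot1_12r : band (Rule.ok (2 * 3) EX RL ⟨1 :: [2, 1, 2, 1, 3, 1, 2, 1, 2, 1, 3, 2, 1, 3, 1, 2, 1, 3, 1, 3], [2, 0], 1, true⟩) (lall (memL L) [2, 1, 2, 1, 3, 1, 2, 1, 2, 1, 3, 2, 1, 3, 1, 2, 1, 3, 1, 3]) = true := by decide +kernel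

theorem rot1_13 : T.rot 1 [3, 1, 3, 1, 2, 1, 3, 1, 2, 3, 1, 2, 1, 2, 1, 3, 1, 2, 1, 2] (sel (ones 768) ip1 13) = true := by decide +kernel

theorem rot1_13r : band (Rule.ok (2 * 3) EX RL ⟨1 :: [3, 1, 3, 1, 2, 1, 3, 1, 2, 3, 1, 2, 1, 2, 1, 3, 1, 2, 1, 2], [2], 1, false⟩) (lall (memL L) [3, 1, 3, 1, 2, 1, 3, 1, 2, 3, 1, 2, 1, 2, 1, 3, 1, 2, 1, 2]) = true := by decide +kernel

theorem rot1_14 : T.rot 1 [3, 1, 2, 1, 3, 1, 2, 3, 1, 2, 1, 2, 1, 3, 1, 2, 1, 2, 1, 3] (sel (ones 768) ip1 14) = true := by decide +kernel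

theorem rot1_14r : band (Rule.ok (2 * 3) EX RL ⟨1 :: [3, 1, 2, 1, 3, 1, 2, 3, 1, 2, 1, 2, 1, 3, 1, 2, 1, 2, 1, 3], [2, 0, 4], 1, false⟩) (lall (memL L) [3, 1, 2, 1, 3, 1, 2, 3, 1, 2, 1, 2, 1, 3, 1, 2, 1, 2, 1, 3]) = true := by decide +kernel

theorem rot1_15 : T.rot 1 [2, 1, 3, 1, 2, 3, 1, 2, 1, 2, 1, 3, 1, 2, 1, 2, 1, 3, 1, 3] (sel (ones 768) ip1 15) = true := by decide +kernel

theorem rot1_15r : band (Rule.ok (2 * 3) EX RL ⟨1 :: [2, 1, 3, 1, 2, 3, 1, 2, 1, 2, 1, 3, 1, 2, 1, 2, 1, 3, 1, 3], [2, 0, 4, 0, 4], 1, false⟩) (lall (memL L) [2, 1, 3, 1, 2, 3, 1, 2, 1, 2, 1, 3, 1, 2, 1, 2, 1, 3, 1, 3]) = true := by decide +kernel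

theorem rot1_16 : T.rot 1 [3, 1, 2, 3, 1, 2, 1, 2, 1, 3, 1, 2, 1, 2, 1, 3, 1, 3, 1, 2] (sel (ones 768) ip1 16) = true := by decide +kernel

theorem rot1_16r : band (Rule.ok (2 * 3) EX RL ⟨1 :: [3, 1, 2, 3, 1, 2, 1, 2, 1, 3, 1, 2, 1, 2, 1, 3, 1, 3, 1, 2], [2, 0, 4, 0, 4, 0, 2], 1, false⟩) (lall (memL L) [3, 1, 2, 3, 1, 2, 1, 2, 1, 3, 1, 2, 1, 2, 1, 3, 1, 3, 1, 2]) = true := by decide +kernel

theorem rot1_17 : T.rot 1 [2, 3, 1, 2, 1, 2, 1, 3, 1, 2, 1, 2, 1, 3, 1, 3, 1, 2, 1, 3] (sel (ones 768) ip1 17) = true := by decide +kernel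

theorem rot1_17r : band (Rule.ok (2 * 3) EX RL ⟨1 :: [2, 3, 1, 2, 1, 2, 1, 3, 1, 2, 1, 2, 1, 3, 1, 3, 1, 2, 1, 3], [2, 0, 4, 0, 4, 0, 2, 0, 4], 1, false⟩) (lall (memL L) [2, 3, 1, 2, 1, 2, 1, 3, 1, 2, 1, 2, 1, 3, 1, 3, 1, 2, 1, 3]) = true := by decide +kernel

theorem rot1_18 : T.rot 1 [2, 1, 2, 1, 3, 1, 2, 1, 2, 1, 3, 1, 3, 1, 2, 1, 3, 1, 2, 3] (sel (ones 768) ip1 18) = true := by decide +kernel

theorem rot1_18r : band (Rule.ok (2 * 3) EX RL ⟨1 :: [2, 1, 2, 1, 3, 1, 2, 1, 2, 1, 3, 1, 3, 1, 2, 1, 3, 1, 2, 3], [0, 2, 0, 4, 0, 2, 0, 2, 0], 1, false⟩) (lall (memL L) [2, 1, 2, 1, 3, 1, 2, 1, 2, 1, 3, 1, 3, 1, 2, 1, 3, 1, 2, 3]) = true := by decide +kernel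

theorem rot1_19 : T.rot 1 [2, 1, 3, 1, 2, 1, 2, 1, 3, 1, 3, 1, 2, 1, 3, 1, 2, 3, 1, 2] (sel (ones 768) ip1 19) = true := by decide +kernel

theorem rot1_19r : band (Rule.ok (2 * 3) EX RL ⟨1 :: [2, 1, 3, 1, 2, 1, 2, 1, 3, 1, 3, 1, 2, 1, 3, 1, 2, 3, 1, 2], [0, 2, 0, 4, 0, 2, 0], 1, false⟩) (lall (memL L) [2, 1, 3, 1, 2, 1, 2, 1, 3, 1, 3, 1, 2, 1, 3, 1, 2, 3, 1, 2]) = true := by decide +kernel

theorem rot1_20 : T.rot 1 [3, 1, 2, 1, 2, 1, 3, 1, 3, 1, 2, 1, 3, 1, 2, 3, 1, 2, 1, 2] (sel (ones 768) ip1 20) = true := by decide +kernel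

theorem rot1_20r : band (Rule.ok (2 * 3) EX RL ⟨1 :: [3, 1, 2, 1, 2, 1, 3, 1, 3, 1, 2, 1, 3, 1, 2, 3, 1, 2, 1, 2], [0, 2, 0, 4, 0], 1, false⟩) (lall (memL L) [3, 1, 2, 1, 2, 1, 3, 1, 3, 1, 2, 1, 3, 1, 2, 3, 1, 2, 1, 2]) = true := by decide +kernel

theorem rot1_21 : T.rot 1 [2, 1, 2, 1, 3, 1, 3, 1, 2, 1, 3, 1, 2, 3, 1, 2, 1, 2, 1, 3] (sel (ones 768) ip1 21) = true := by decide +kernel

theorem rot1_21r : band (Rule.ok (2 * 3) EX RL ⟨1 :: [2, 1, 2, 1, 3, 1, 3, 1, 2, 1, 3, 1, 2, 3, 1, 2, 1, 2, 1, 3], [0, 2, 0], 1, false⟩) (lall (memL L) [2, 1, 2, 1, 3, 1, 3, 1, 2, 1, 3, 1, 2, 3, 1, 2, 1, 2, 1, 3]) = true := by decide +kernel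

theorem rot1_22 : T.rot 1 [2, 1, 3, 1, 3, 1, 2, 1, 3, 1, 2, 3, 1, 2, 1, 2, 1, 3, 1, 2] (sel (ones 768) ip1 22) = true := by decide +kernel

theorem rot1_22r : band (Rule.ok (2 * 3) EX RL ⟨1 :: [2, 1, 3, 1, 3, 1, 2, 1, 3, 1, 2, 3, 1, 2, 1, 2, 1, 3, 1, 2], [0], 1, false⟩) (lall (memL L) [2, 1, 3, 1, 3, 1, 2, 1, 3, 1, 2, 3, 1, 2, 1, 2, 1, 3, 1, 2]) = true := by decide +kernel

theorem cov1 : T.cover 1 [(sel (ones 768) ip1 1), (sel (ones 768) ip1 2), (sel (ones 768) ip1 3), (sel (ones 768) ip1 4), (sel (ones 768) ip1 5), (sel (ones 768) ip1 6), (sel (ones 768) ip1 7), (sel (ones 768) ip1 8), (sel (ones 768) ip1 9), (sel (ones 768) ip1 10), (sel (ones 768) ip1 11), (sel (ones 768) ip1 12), (sel (ones 768) ip1 13), (sel (ones 768) ip1 14), (sel (ones 768) ip1 15), (sel (ones 768) ip1 16), (sel (ones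 768) ip1 17), (sel (ones 768) ip1 18), (sel (ones 768) ip1 19), (sel (ones 768) ip1 20), (sel (ones 768) ip1 21), (sel (ones 768) ip1 22)] = true := by decide +kernel

theorem tl1 : T.treeLt 10 1 = true := by decide +kernel

theorem rot2_1 : T.rot 2 [2] (sel (ones 768) ip2 1) = true := by decide +kernel

theorem rot2_1r : band (Rule.ok (2 * 3) EX RL ⟨2 :: [2], [], 3, false⟩) (lall (memL L) [2]) = true := by decide +kernel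

theorem rot2_2 : T.rot 2 [3, 2, 3] (sel (ones 768) ip2 2) = true := by decide +kernel

theorem rot2_2r : band (Rule.ok (2 * 3) EX RL ⟨2 :: [3, 2, 3], [], 0, true⟩) (lall (memL L) [3, 2, 3]) = true := by decide +kernel

theorem rot2_3 : T.rot 2 [1, 2, 1, 2, 1, 2, 1, 2, 1, 2, 1] (sel (ones 768) ip2 3) = true := by decide +kernel

theorem rot2_3r : band (Rule.ok (2 * 3) EX RL ⟨2 :: [1, 2, 1, 2, 1, 2, 1, 2, 1, 2, 1], [], 2, false⟩) (lall (memL L) [1, 2, 1, 2, 1, 2, 1, 2, 1, 2, 1]) = true := by decide +kernel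

theorem rot2_4 : T.rot 2 [1, 3, 1, 2, 1, 2, 1, 3, 2, 1, 3, 1, 2, 1, 3, 1, 3, 1, 2, 1] (sel (ones 768) ip2 4) = true := by decide +kernel

theorem rot2_4r : band (Rule.ok (2 * 3) EX RL ⟨2 :: [1, 3, 1, 2, 1, 2, 1, 3, 2, 1, 3, 1, 2, 1, 3, 1, 3, 1, 2, 1], [0], 1, true⟩) (lall (memL L) [1, 3, 1, 2, 1, 2, 1, 3, 2, 1, 3, 1, 2, 1, 3, 1, 3, 1, 2, 1]) = true := by decide +kernel

theorem rot2_5 : T.rot 2 [1, 2, 1, 3, 2, 1, 3, 1, 2, 1, 3, 1, 3, 1, 2, 1, 2, 1, 3, 1] (sel (ones 768) ip2 5) = true := by decide +kernel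

theorem rot2_5r : band (Rule.ok (2 * 3) EX RL ⟨2 :: [1, 2, 1, 3, 2, 1, 3, 1, 2, 1, 3, 1, 3, 1, 2, 1, 2, 1, 3, 1], [0, 2, 0, 4, 0], 1, true⟩) (lall (memL L) [1, 2, 1, 3, 2, 1, 3, 1, 2, 1, 3, 1, 3, 1, 2, 1, 2, 1, 3, 1]) = true := by decide +kernel

theorem rot2_6 : T.rot 2 [1, 3, 2, 1, 3, 1, 2, 1, 3, 1, 3, 1, 2, 1, 2, 1, 3, 1, 2, 1] (sel (ones 768) ip2 6) = true := by decide +kernel

theorem rot2_6r : band (Rule.ok (2 * 3) EX RL ⟨2 :: [1, 3, 2, 1, 3, 1, 2, 1, 3, 1, 3, 1, 2, 1, 2, 1, 3, 1, 2, 1], [0, 2, 0, 4, 0, 2, 0], 1, true⟩) (lall (memL L) [1, 3, 2, 1, 3, 1, 2, 1, 3, 1, 3, 1, 2, 1, 2, 1, 3, 1, 2, 1]) = true := by decide +kernel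

theorem rot2_7 : T.rot 2 [1, 3, 1, 2, 1, 3, 1, 3, 1, 2, 1, 2, 1, 3, 1, 2, 1, 2, 1, 3] (sel (ones 768) ip2 7) = true := by decide +kernel

theorem rot2_7r : band (Rule.ok (2 * 3) EX RL ⟨2 :: [1, 3, 1, 2, 1, 3, 1, 3, 1, 2, 1, 2, 1, 3, 1, 2, 1, 2, 1, 3], [0, 2, 0, 4, 0, 2, 0, 2, 0, 4], 1, true⟩) (lall (memL L) [1, 3, 1, 2, 1, 3, 1, 3, 1, 2, 1, 2, 1, 3, 1, 2, 1, 2, 1, 3]) = true := by decide +kernel

theorem rot2_8 : T.rot 2 [1, 3, 1, 3, 1, 2, 1, 2, 1, 3, 1, 2, 1, 2, 1, 3, 2, 1, 3, 1] (sel (ones 768) ip2 8) = true := by decide +kernel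

theorem rot2_8r : band (Rule.ok (2 * 3) EX RL ⟨2 :: [1, 3, 1, 3, 1, 2, 1, 2, 1, 3, 1, 2, 1, 2, 1, 3, 2, 1, 3, 1], [2, 0, 4, 0, 4, 0, 2], 1, true⟩) (lall (memL L) [1, 3, 1, 3, 1, 2, 1, 2, 1, 3, 1, 2, 1, 2, 1, 3, 2, 1, 3, 1]) = true := by decide +kernel

theorem rot2_9 : T.rot 2 [1, 2, 1, 3, 1, 2, 1, 2, 1, 3, 2, 1, 3, 1, 2, 1, 3, 1, 3, 1] (sel (ones 768) ip2 9) = true := by decide +kernel

theorem rot2_9r : band (Rule.ok (2 * 3) EX RL ⟨2 :: [1, 2, 1, 3, 1, 2, 1, 2, 1, 3, 2, 1, 3, 1, 2, 1, 3, 1, 3, 1], [2], 1, true⟩) (lall (memL L) [1, 2, 1, 3, 1, 2, 1, 2, 1, 3, 2, 1, 3, 1, 2, 1, 3, 1, 3, 1]) = true := by decide +kernel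

theorem rot2_10 : T.rot 2 [1, 3, 1, 3, 1, 2, 1, 3, 1, 2, 3, 1, 2, 1, 2, 1, 3, 1, 2, 1] (sel (ones 768) ip2 10) = true := by decide +kernel

theorem rot2_10r : band (Rule.ok (2 * 3) EX RL ⟨2 :: [1, 3, 1, 3, 1, 2, 1, 3, 1, 2, 3, 1, 2, 1, 2, 1, 3, 1, 2, 1], [], 1, false⟩) (lall (memL L) [1, 3, 1, 3, 1, 2, 1, 3, 1, 2, 3, 1, 2, 1, 2, 1, 3, 1, 2, 1]) = true := by decide +kernel

theorem rot2_11 : T.rot 2 [1, 3, 1, 2, 3, 1, 2, 1, 2, 1, 3, 1, 2, 1, 2, 1, 3, 1, 3, 1] (sel (ones 768) ip2 11) = true := by decide +kernel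

theorem rot2_11r : band (Rule.ok (2 * 3) EX RL ⟨2 :: [1, 3, 1, 2, 3, 1, 2, 1, 2, 1, 3, 1, 2, 1, 2, 1, 3, 1, 3, 1], [2, 0, 4, 0, 4, 0], 1, false⟩) (lall (memL L) [1, 3, 1, 2, 3, 1, 2, 1, 2, 1, 3, 1, 2, 1, 2, 1, 3, 1, 3, 1]) = true := by decide +kernel

theorem rot2_12 : T.rot 2 [3, 1, 2, 1, 2, 1, 3, 1, 2, 1, 2, 1, 3, 1, 3, 1, 2, 1, 3, 1] (sel (ones 768) ip2 12) = true := by decide +kernel

theorem rot2_12r : band (Rule.ok (2 * 3) EX RL ⟨2 :: [3, 1, 2, 1, 2, 1, 3, 1, 2, 1, 2, 1, 3, 1, 3, 1, 2, 1, 3, 1], [2, 0, 4, 0, 4, 0, 2, 0, 4, 0], 1, false⟩) (lall (memL L) [3, 1, 2, 1, 2, 1, 3, 1, 2, 1, 2, 1, 3, 1, 3, 1, 2, 1, 3, 1]) = true := by decide +kernel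

theorem rot2_13 : T.rot 2 [1, 2, 1, 3, 1, 2, 1, 2, 1, 3, 1, 3, 1, 2, 1, 3, 1, 2, 3, 1] (sel (ones 768) ip2 13) = true := by decide +kernel

theorem rot2_13r : band (Rule.ok (2 * 3) EX RL ⟨2 :: [1, 2, 1, 3, 1, 2, 1, 2, 1, 3, 1, 3, 1, 2, 1, 3, 1, 2, 3, 1], [0, 2, 0, 4, 0, 2, 0, 2], 1, false⟩) (lall (memL L) [1, 2, 1, 3, 1, 2, 1, 2, 1, 3, 1, 3, 1, 2, 1, 3, 1, 2, 3, 1]) = true := by decide +kernel

theorem rot2_14 : T.rot 2 [1, 3, 1, 2, 1, 2, 1, 3, 1, 3, 1, 2, 1, 3, 1, 2, 3, 1, 2, 1] (sel (ones 768) ip2 14) = true := by decide +kernel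

theorem rot2_14r : band (Rule.ok (2 * 3) EX RL ⟨2 :: [1, 3, 1, 2, 1, 2, 1, 3, 1, 3, 1, 2, 1, 3, 1, 2, 3, 1, 2, 1], [0, 2, 0, 4, 0, 2], 1, false⟩) (lall (memL L) [1, 3, 1, 2, 1, 2, 1, 3, 1, 3, 1, 2, 1, 3, 1, 2, 3, 1, 2, 1]) = true := by decide +kernel

theorem rot2_15 : T.rot 2 [1, 2, 1, 3, 1, 3, 1, 2, 1, 3, 1, 2, 3, 1, 2, 1, 2, 1, 3, 1] (sel (ones 768) ip2 15) = true := by decide +kernel

theorem rot2_15r : band (Rule.ok (2 * 3) EX RL ⟨2 :: [1, 2, 1, 3, 1, 3, 1, 2, 1, 3, 1, 2, 3, 1, 2, 1, 2, 1, 3, 1], [0, 2], 1, false⟩) (lall (memL L) [1, 2, 1, 3, 1, 3, 1, 2, 1, 3, 1, 2, 3, 1, 2, 1, 2, 1, 3, 1]) = true := by decide +kernel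

theorem cov2 : T.cover 2 [(sel (ones 768) ip2 1), (sel (ones 768) ip2 2), (sel (ones 768) ip2 3), (sel (ones 768) ip2 4), (sel (ones 768) ip2 5), (sel (ones 768) ip2 6), (sel (ones 768) ip2 7), (sel (ones 768) ip2 8), (sel (ones 768) ip2 9), (sel (ones 768) ip2 10), (sel (ones 768) ip2 11), (sel (ones 768) ip2 12), (sel (ones 768) ip2 13), (sel (ones 768) ip2 14), (sel (ones 768) ip2 15)] = true := by decide +kernel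

theorem tl2 : T.treeLt 10 2 = true := by decide +kernel

theorem rot3_1 : T.rot 3 [3] (sel (ones 768) ip3 1) = true := by decide +kernel

theorem rot3_1r : band (Rule.ok (2 * 3) EX RL ⟨3 :: [3], [], 3, false⟩) (lall (memL L) [3]) = true := by decide +kernel

theorem rot3_2 : T.rot 3 [2, 3, 2] (sel (ones 768) ip3 2) = true := by decide +kernel

theorem rot3_2r : band (Rule.ok (2 * 3) EX RL ⟨3 :: [2, 3, 2], [], 0, false⟩) (lall (memL L) [2, 3, 2]) = true := by decide +kernel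

theorem rot3_3 : T.rot 3 [1, 2, 1, 2, 1, 3, 2, 1, 3, 1, 2, 1, 3, 1, 3, 1, 2, 1, 2, 1] (sel (ones 768) ip3 3) = true := by decide +kernel

theorem rot3_3r : band (Rule.ok (2 * 3) EX RL ⟨3 :: [1, 2, 1, 2, 1, 3, 2, 1, 3, 1, 2, 1, 3, 1, 3, 1, 2, 1, 2, 1], [0, 2, 0], 1, true⟩) (lall (memL L) [1, 2, 1, 2, 1, 3, 2, 1, 3, 1, 2, 1, 3, 1, 3, 1, 2, 1, 2, 1]) = true := by decide +kernel

theorem rot3_4 : T.rot 3 [2, 1, 3, 1, 2, 1, 3, 1, 3, 1, 2, 1, 2, 1, 3, 1, 2, 1, 2, 1] (sel (ones 768) ip3 4) = true := by decide +kernel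

theorem rot3_4r : band (Rule.ok (2 * 3) EX RL ⟨3 :: [2, 1, 3, 1, 2, 1, 3, 1, 3, 1, 2, 1, 2, 1, 3, 1, 2, 1, 2, 1], [0, 2, 0, 4, 0, 2, 0, 2, 0], 1, true⟩) (lall (memL L) [2, 1, 3, 1, 2, 1, 3, 1, 3, 1, 2, 1, 2, 1, 3, 1, 2, 1, 2, 1]) = true := by decide +kernel

theorem rot3_5 : T.rot 3 [1, 2, 1, 3, 1, 3, 1, 2, 1, 2, 1, 3, 1, 2, 1, 2, 1, 3, 2, 1] (sel (ones 768) ip3 5) = true := by decide +kernel

theorem rot3_5r : band (Rule.ok (2 * 3) EX RL ⟨3 :: [1, 2, 1, 3, 1, 3, 1, 2, 1, 2, 1, 3, 1, 2, 1, 2, 1, 3, 2, 1], [2, 0, 4, 0, 4, 0, 2, 0, 4], 1, true⟩) (lall (memL L) [1, 2, 1, 3, 1, 3, 1, 2, 1, 2, 1, 3, 1, 2, 1, 2, 1, 3, 2, 1]) = true := by decide +kernel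

theorem rot3_6 : T.rot 3 [1, 3, 1, 2, 1, 2, 1, 3, 1, 2, 1, 2, 1, 3, 2, 1, 3, 1, 2, 1] (sel (ones 768) ip3 6) = true := by decide +kernel

theorem rot3_6r : band (Rule.ok (2 * 3) EX RL ⟨3 :: [1, 3, 1, 2, 1, 2, 1, 3, 1, 2, 1, 2, 1, 3, 2, 1, 3, 1, 2, 1], [2, 0, 4, 0, 4], 1, true⟩) (lall (memL L) [1, 3, 1, 2, 1, 2, 1, 3, 1, 2, 1, 2, 1, 3, 2, 1, 3, 1, 2, 1]) = true := by decide +kernel

theorem rot3_7 : T.rot 3 [1, 2, 1, 2, 1, 3, 1, 2, 1, 2, 1, 3, 2, 1, 3, 1, 2, 1, 3, 1] (sel (ones 768) ip3 7) = true := by decide +kernel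

theorem rot3_7r : band (Rule.ok (2 * 3) EX RL ⟨3 :: [1, 2, 1, 2, 1, 3, 1, 2, 1, 2, 1, 3, 2, 1, 3, 1, 2, 1, 3, 1], [2, 0, 4], 1, true⟩) (lall (memL L) [1, 2, 1, 2, 1, 3, 1, 2, 1, 2, 1, 3, 2, 1, 3, 1, 2, 1, 3, 1]) = true := by decide +kernel

theorem rot3_8 : T.rot 3 [1, 3, 1, 2, 1, 3, 1, 2, 3, 1, 2, 1, 2, 1, 3, 1, 2, 1, 2, 1] (sel (ones 768) ip3 8) = true := by decide +kernel

theorem rot3_8r : band (Rule.ok (2 * 3) EX RL ⟨3 :: [1, 3, 1, 2, 1, 3, 1, 2, 3, 1, 2, 1, 2, 1, 3, 1, 2, 1, 2, 1], [2, 0], 1, false⟩) (lall (memL L) [1, 3, 1, 2, 1, 3, 1, 2, 3, 1, 2, 1, 2, 1, 3, 1, 2, 1, 2, 1]) = true := by decide +kernel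

theorem rot3_9 : T.rot 3 [1, 2, 1, 3, 1, 2, 3, 1, 2, 1, 2, 1, 3, 1, 2, 1, 2, 1, 3, 1] (sel (ones 768) ip3 9) = true := by decide +kernel

theorem rot3_9r : band (Rule.ok (2 * 3) EX RL ⟨3 :: [1, 2, 1, 3, 1, 2, 3, 1, 2, 1, 2, 1, 3, 1, 2, 1, 2, 1, 3, 1], [2, 0, 4, 0], 1, false⟩) (lall (memL L) [1, 2, 1, 3, 1, 2, 3, 1, 2, 1, 2, 1, 3, 1, 2, 1, 2, 1, 3, 1]) = true := by decide +kernel

theorem rot3_10 : T.rot 3 [1, 2, 3, 1, 2, 1, 2, 1, 3, 1, 2, 1, 2, 1, 3, 1, 3, 1, 2, 1] (sel (ones 768) ip3 10) = true := by decide +kernel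

theorem rot3_10r : band (Rule.ok (2 * 3) EX RL ⟨3 :: [1, 2, 3, 1, 2, 1, 2, 1, 3, 1, 2, 1, 2, 1, 3, 1, 3, 1, 2, 1], [2, 0, 4, 0, 4, 0, 2, 0], 1, false⟩) (lall (memL L) [1, 2, 3, 1, 2, 1, 2, 1, 3, 1, 2, 1, 2, 1, 3, 1, 3, 1, 2, 1]) = true := by decide +kernel

theorem rot3_11 : T.rot 3 [1, 2, 1, 2, 1, 3, 1, 2, 1, 2, 1, 3, 1, 3, 1, 2, 1, 3, 1, 2] (sel (ones 768) ip3 11) = true := by decide +kernel

theorem rot3_11r : band (Rule.ok (2 * 3) EX RL ⟨3 :: [1, 2, 1, 2, 1, 3, 1, 2, 1, 2, 1, 3, 1, 3, 1, 2, 1, 3, 1, 2], [0, 2, 0, 4, 0, 2, 0, 2, 0, 4], 1, false⟩) (lall (memL L) [1, 2, 1, 2, 1, 3, 1, 2, 1, 2, 1, 3, 1, 3, 1, 2, 1, 3, 1, 2]) = true := by decide +kernel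

theorem rot3_12 : T.rot 3 [1, 2, 1, 2, 1, 3, 1, 3, 1, 2, 1, 3, 1, 2, 3, 1, 2, 1, 2, 1] (sel (ones 768) ip3 12) = true := by decide +kernel

theorem rot3_12r : band (Rule.ok (2 * 3) EX RL ⟨3 :: [1, 2, 1, 2, 1, 3, 1, 3, 1, 2, 1, 3, 1, 2, 3, 1, 2, 1, 2, 1], [0, 2, 0, 4], 1, false⟩) (lall (memL L) [1, 2, 1, 2, 1, 3, 1, 3, 1, 2, 1, 3, 1, 2, 3, 1, 2, 1, 2, 1]) = true := by decide +kernel

theorem cov3 : T.cover 3 [(sel (ones 768) ip3 1), (sel (ones 768) ip3 2), (sel (ones 768) ip3 3), (sel (ones 768) ip3 4), (sel (ones 768) ip3 5), (sel (ones 768) ip3 6), (sel (ones 768) ip3 7), (sel (ones 768) ip3 8), (sel (ones 768) ip3 9), (sel (ones 768) ip3 10), (sel (ones 768) ip3 11), (sel (ones 768) ip3 12)] = true := by decide +kernel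

theorem tl3 : T.treeLt 10 3 = true := by decide +kernel

end Cfsg.Agent.Spor.C3H
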